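import Mathlib.LinearAlgebra.FiniteDimensional.Basic
import Mathlib.LinearAlgebra.Basis.VectorSpace
import Mathlib.LinearAlgebra.Quotient.Basic
import Mathlib.RingTheory.Artinian.Module
import Mathlib.Algebra.BigOperators.Fin
import Mathlib.LinearAlgebra.Dimension.OrzechProperty
import Mathlib.Tactic.LinearCombination
import Mathlib.Tactic.Abel

set_option autoImplicit false
universe u v

namespace Groth.Agent.SigmaLin.Basic

open Module

variable {k : Type u} [Field k] {σ : k →+* k}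
variable {V : Type v} [AddCommGroup V] [Module k V]

/-- Span of the range of the `n`-th iterate. -/
def stage (T : V →ₛₗ[σ] V) (n : ℕ) : Submodule k V := Submodule.span k (Set.range ((⇑T)^[n]))

lemma stage_antitone (T : V →ₛₗ[σ] V) : Antitone (stage T) := by
  refine antitone_nat_of_succ_le fun n => Submodule.span_mono ?_
  rintro _ ⟨x, rfl⟩
  exact ⟨T x, by rw [Function.iterate_succ_apply]⟩

lemma map_span_mem (T : V →ₛₗ[σ] V) {s t : Set V} (h : ∀ x ∈ s, T x ∈ Submodule.span k t)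
    {x : V} (hx : x ∈ Submodule.span k s) : T x ∈ Submodule.span k t := by
  induction hx using Submodule.span_induction with
  | mem y hy => exact h y hy
  | zero => simp
  | add a b _ _ ha hb => rw [map_add]; exact add_mem ha hb
  | smul c a _ ha => rw [map_smulₛₗ]; exact Submodule.smul_mem _ _ ha

lemma stage_succ_le (T : V →ₛₗ[σ] V) (n : ℕ) :
    stage T (n + 1) ≤ Submodule.span k (T '' (stage T n : Set V)) := by
  refine Submodule.span_le.2 ?_
  rintro _ ⟨x, rfl⟩
  rw [Function.iterate_succ_apply']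
  exact Submodule.subset_span ⟨_, Submodule.subset_span ⟨x, rfl⟩, rfl⟩

lemma stage_stable [FiniteDimensional k V] (T : V →ₛₗ[σ] V) :
    ∃ N, ∀ n, N ≤ n → stage T n = stage T N := by
  obtain ⟨N, hN⟩ := IsArtinian.monotone_stabilizes
    (⟨fun n => OrderDual.toDual (stage T n), fun a b h => stage_antitone T h⟩ : ℕ →o (Submodule k V)ᵒᵈ)
  exact ⟨N, fun n hn => (OrderDual.toDual.injective (hN n hn)).symm⟩

lemma iInf_stage_eq [FiniteDimensional k V] (T : V →ₛₗ[σ] V) :
    ∃ N, ∀ n, N ≤ n → (⨅ m, stage T m) = stage T n := by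
  obtain ⟨N, hN⟩ := stage_stable T
  refine ⟨N, fun n hn => le_antisymm (iInf_le _ n) (le_iInf fun m => ?_)⟩
  rw [hN n hn]
  rcases le_total N m with h | h
  · rw [hN m h]
  · exact stage_antitone T h

lemma mem_iInf_stage (T : V →ₛₗ[σ] V) {v : V} (hv : v ∈ ⨅ m, stage T m) : T v ∈ ⨅ m, stage T m := by
  rw [Submodule.mem_iInf] at hv ⊢
  intro m
  refine stage_antitone T (Nat.le_succ m) ?_
  refine map_span_mem T ?_ (hv m)
  rintro _ ⟨x, rfl⟩
  exact Submodule.subset_span ⟨x, by rw [Function.iterate_succ_apply']⟩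

lemma injOn_iInf_stage [FiniteDimensional k V] (T : V →ₛₗ[σ] V) {v : V}
    (hv : v ∈ ⨅ m, stage T m) (h0 : T v = 0) : v = 0 := by
  obtain ⟨N, hN⟩ := iInf_stage_eq T
  set W := ⨅ m, stage T m with hW
  let b := Module.finBasis k W
  have hspan : W ≤ Submodule.span k (Set.range fun i => T (b i : V)) := by
    refine (le_of_eq (hN (N + 1) (Nat.le_succ N))).trans ?_
    refine (stage_succ_le T N).trans (Submodule.span_le.2 ?_)
    rintro _ ⟨x, hx, rfl⟩
    rw [SetLike.mem_coe, ← hN N le_rfl] at hx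
    have := congrArg (fun y : W => (y : V)) (b.sum_repr ⟨x, hx⟩)
    simp only [Submodule.coe_sum, Submodule.coe_smul] at this
    rw [← this, map_sum]
    refine sum_mem fun i _ => ?_
    rw [map_smulₛₗ]
    exact Submodule.smul_mem _ _ (Submodule.subset_span ⟨i, rfl⟩)
  have hle : Submodule.span k (Set.range fun i => T (b i : V)) ≤ W :=
    Submodule.span_le.2 (by rintro _ ⟨i, rfl⟩; exact mem_iInf_stage T (b i).2)
  have hli : LinearIndependent k (fun i => T (b i : V)) := by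
    rw [linearIndependent_iff_card_le_finrank_span, Set.finrank, le_antisymm hle hspan]
    simp
  have hv' := congrArg (fun y : W => (y : V)) (b.sum_repr ⟨v, hv⟩)
  simp only [Submodule.coe_sum, Submodule.coe_smul] at hv'
  have hzero : ∀ i, b.repr ⟨v, hv⟩ i = 0 := by
    intro i
    apply σ.injective
    rw [map_zero]
    refine Fintype.linearIndependent_iff.1 hli (fun i => σ (b.repr ⟨v, hv⟩ i)) ?_ i
    rw [← h0]
    conv_rhs => rw [← hv', map_sum]
    simp [map_smulₛₗ]
  rw [← hv']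
  simp [hzero]

lemma eq_zero_of_iterate_eq_zero [FiniteDimensional k V] (T : V →ₛₗ[σ] V) :
    ∀ (n : ℕ) {v : V}, v ∈ (⨅ m, stage T m) → (⇑T)^[n] v = 0 → v = 0
  | 0, _, _, h => h
  | n + 1, _, hv, h => injOn_iInf_stage T hv
      (eq_zero_of_iterate_eq_zero T n (mem_iInf_stage T hv) h)

lemma iterate_smul (T : V →ₛₗ[σ] V) : ∀ (n : ℕ) (c : k) (x : V),
    (⇑T)^[n] (c • x) = (⇑σ)^[n] c • (⇑T)^[n] x
  | 0, _, _ => rfl
  | n + 1, c, x => by
    rw [Function.iterate_succ_apply, map_smulₛₗ, iterate_smul T n, Function.iterate_succ_apply,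
      Function.iterate_succ_apply]

lemma iterate_add (T : V →ₛₗ[σ] V) (n : ℕ) (x y : V) :
    (⇑T)^[n] (x + y) = (⇑T)^[n] x + (⇑T)^[n] y := iterate_map_add T n x y

/-- The kernel of the `n`-th iterate. -/
def nilStage (T : V →ₛₗ[σ] V) (n : ℕ) : Submodule k V where
  carrier := {v | (⇑T)^[n] v = 0}
  zero_mem' := iterate_map_zero T n
  add_mem' {a b} ha hb := by
    simp only [Set.mem_ofPred_eq] at ha hb ⊢
    rw [iterate_add, ha, hb, add_zero]
  smul_mem' c x hx := by
    simp only [Set.mem_ofPred_eq] at hx ⊢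
    rw [iterate_smul, hx, smul_zero]

lemma mem_stage_iff (hσ : Function.Surjective σ) (T : V →ₛₗ[σ] V) (n : ℕ) (v : V) :
    v ∈ stage T n ↔ ∃ x, (⇑T)^[n] x = v := by
  refine ⟨fun h => ?_, fun ⟨x, hx⟩ => Submodule.subset_span ⟨x, hx⟩⟩
  induction h using Submodule.span_induction with
  | mem y hy => exact hy
  | zero => exact ⟨0, iterate_map_zero T n⟩
  | add a b _ _ ha hb =>
    obtain ⟨x, rfl⟩ := ha; obtain ⟨y, rfl⟩ := hb
    exact ⟨x + y, iterate_add T n x y⟩
  | smul c a _ ha =>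
    obtain ⟨x, rfl⟩ := ha
    obtain ⟨d, rfl⟩ := hσ.iterate n c
    exact ⟨d • x, iterate_smul T n d x⟩

/-- Fitting decomposition. -/
lemma fitting (hσ : Function.Surjective σ) [FiniteDimensional k V] (T : V →ₛₗ[σ] V) :
    ∃ N, (∀ v, (∃ n, (⇑T)^[n] v = 0) → (⇑T)^[N] v = 0) ∧
      IsCompl (nilStage T N) (⨅ m, stage T m) := by
  obtain ⟨N, hN⟩ := iInf_stage_eq T
  have hdec : ∀ v, ∃ w ∈ (⨅ m, stage T m), (⇑T)^[N] (v - w) = 0 := by
    intro v
    have h : (⇑T)^[N] v ∈ stage T (N + N) := by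
      rw [← hN (N + N) (Nat.le_add_left _ _), hN N le_rfl]
      exact Submodule.subset_span ⟨v, rfl⟩
    obtain ⟨x, hx⟩ := (mem_stage_iff hσ T _ _).1 h
    refine ⟨(⇑T)^[N] x, ?_, ?_⟩
    · rw [hN N le_rfl]
      exact Submodule.subset_span ⟨x, rfl⟩
    · rw [iterate_map_sub T N, ← hx, Function.iterate_add_apply, sub_self]
  refine ⟨N, ?_, ?_, ?_⟩
  · rintro v ⟨n, hn⟩
    obtain ⟨w, hw, hvw⟩ := hdec v
    have hw0 : w = 0 := by
      refine eq_zero_of_iterate_eq_zero T (n + N) hw ?_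
      have h1 : (⇑T)^[n + N] v = 0 := by
        rw [add_comm, Function.iterate_add_apply, hn, iterate_map_zero]
      have h2 : (⇑T)^[n + N] (v - w) = 0 := by
        rw [Function.iterate_add_apply, hvw, iterate_map_zero]
      rw [iterate_map_sub T, h1, zero_sub, neg_eq_zero] at h2
      exact h2
    rw [hw0, sub_zero] at hvw
    exact hvw
  · rw [Submodule.disjoint_def]
    exact fun x hx hx' => eq_zero_of_iterate_eq_zero T N hx' hx
  · rw [codisjoint_iff, eq_top_iff]
    intro v _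
    obtain ⟨w, hw, hvw⟩ := hdec v
    exact Submodule.mem_sup.2 ⟨v - w, hvw, w, hw, sub_add_cancel v w⟩

/-- A nonzero fixed vector in the span of an orbit. -/
lemma exists_ne_zero_fixed [FiniteDimensional k V] (T : V →ₛₗ[σ] V)
    (h2 : ∀ (n : ℕ) (b : Fin (n + 1) → k), b ≠ 0 →
      ∃ x : k, x ≠ 0 ∧ x = ∑ i : Fin (n + 1), (⇑σ)^[i.val + 1] x * (⇑σ)^[i.val] (b (Fin.rev i)))
    (e : V) (he : ∀ m : ℕ, (⇑T)^[m] e ≠ 0) :
    ∃ v ∈ Submodule.span k (Set.range (fun m : ℕ => (⇑T)^[m] e)), v ≠ 0 ∧ T v = v := by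
  classical
  have hex : ∃ n, ¬ LinearIndependent k (fun i : Fin (n + 1) => (⇑T)^[i.val] e) :=
    ⟨finrank k V, fun h => by simpa using h.fintype_card_le_finrank⟩
  have hspec := Nat.find_spec hex
  have hn0 : Nat.find hex ≠ 0 := by
    intro h
    rw [h] at hspec
    apply hspec
    refine Fintype.linearIndependent_iff.2 fun g hg i => ?_
    rw [Fin.sum_univ_one] at hg
    change g 0 • e = 0 at hg
    rw [smul_eq_zero] at hg
    rw [show i = 0 from Fin.ext (by omega)]
    exact hg.resolve_right (he 0)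
  obtain ⟨n, hn⟩ := Nat.exists_eq_succ_of_ne_zero hn0
  have hli : LinearIndependent k (fun i : Fin (n + 1) => (⇑T)^[i.val] e) :=
    not_not.1 (Nat.find_min hex (by omega : n < Nat.find hex))
  rw [hn] at hspec
  have hmem : (⇑T)^[n + 1] e ∈ Submodule.span k (Set.range fun i : Fin (n + 1) => (⇑T)^[i.val] e) := by
    by_contra hnot
    apply hspec
    rw [linearIndependent_finSucc']
    exact ⟨hli, by simpa [Fin.init_def] using hnot⟩
  obtain ⟨c, hc⟩ := (Submodule.mem_span_range_iff_exists_fun k).1 hmem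
  have hc0 : c ≠ 0 := fun h => he (n + 1) (by simp [← hc, h])
  obtain ⟨x, hx0, hx⟩ := h2 n c hc0
  let c' : ℕ → k := fun j => if h : j < n + 1 then c ⟨j, h⟩ else 0
  let a : ℕ → k := fun j => Nat.rec (σ x * c' 0) (fun j r => σ r + σ x * c' (j + 1)) j
  have hformula : ∀ j, a j = ∑ i ∈ Finset.range (j + 1), (⇑σ)^[i + 1] x * (⇑σ)^[i] (c' (j - i)) := by
    intro j
    induction j with
    | zero => simp [a]
    | succ j ih =>
      rw [Finset.sum_range_succ']
      show σ (a j) + σ x * c' (j + 1) = _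
      rw [ih, map_sum]
      congr 1
      refine Finset.sum_congr rfl fun i hi => ?_
      rw [map_mul, ← Function.iterate_succ_apply' (⇑σ), ← Function.iterate_succ_apply' (⇑σ)]
      rw [show j + 1 - (i + 1) = j - i by omega]
  have han : a n = x := by
    rw [hformula n, Finset.sum_range fun i => (⇑σ)^[i + 1] x * (⇑σ)^[i] (c' (n - i))]
    conv_rhs => rw [hx]
    refine Finset.sum_congr rfl fun i _ => ?_
    congr 2
    simp only [c']
    rw [dif_pos (by omega : n - i.val < n + 1)]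
    congr 1
    ext
    simp [Fin.rev]
  refine ⟨∑ i : Fin (n + 1), a i.val • (⇑T)^[i.val] e, ?_, ?_, ?_⟩
  · exact sum_mem fun i _ => Submodule.smul_mem _ _ (Submodule.subset_span ⟨i.val, rfl⟩)
  · intro h0
    have := Fintype.linearIndependent_iff.1 hli (fun i => a i.val) h0 (Fin.last n)
    exact hx0 (by simpa [han] using this)
  · rw [map_sum]
    calc ∑ i : Fin (n + 1), T (a i.val • (⇑T)^[i.val] e)
        = ∑ i : Fin n, σ (a i.val) • (⇑T)^[i.val + 1] e + σ x • (⇑T)^[n + 1] e := by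
          rw [Fin.sum_univ_castSucc]
          simp [map_smulₛₗ, ← Function.iterate_succ_apply', han]
      _ = ∑ i : Fin n, σ (a i.val) • (⇑T)^[i.val + 1] e
            + ∑ i : Fin (n + 1), (σ x * c i) • (⇑T)^[i.val] e := by
          rw [← hc, Finset.smul_sum]; simp [smul_smul]
      _ = ∑ i : Fin (n + 1), a i.val • (⇑T)^[i.val] e := by
          rw [Fin.sum_univ_succ (n := n), Fin.sum_univ_succ (n := n) (f := fun i => a i.val • _)]
          rw [add_left_comm, ← Finset.sum_add_distrib]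
          congr 1
          refine Finset.sum_congr rfl fun i _ => ?_
          simp only [Fin.val_succ, ← add_smul]
          congr 1
          show _ = σ (a i.val) + σ x * c' (i.val + 1)
          simp only [c']
          rw [dif_pos (by omega : i.val + 1 < n + 1)]
          rfl

lemma sub_surjective_of_fixed_basis {ι : Type*} [Fintype ι] (T : V →ₛₗ[σ] V) (b : Basis ι k V)
    (hb : ∀ i, T (b i) = b i) (h3 : ∀ c : k, ∃ y : k, σ y - y + c = 0) (f : V) :
    ∃ v, v - T v = f := by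
  choose y hy using h3
  refine ⟨∑ i, y (b.repr f i) • b i, ?_⟩
  conv_rhs => rw [← b.sum_repr f]
  rw [map_sum, ← Finset.sum_sub_distrib]
  refine Finset.sum_congr rfl fun i _ => ?_
  rw [map_smulₛₗ, hb, ← sub_smul]
  congr 1
  have := hy (b.repr f i)
  linear_combination -this

lemma exists_fixed_basis_span [FiniteDimensional k V] (T : V →ₛₗ[σ] V) :
    ∃ (s : Set V) (b : Basis s k (Submodule.span k {v : V | T v = v})),
      s.Finite ∧ ∀ i, T (b i : V) = (b i : V) := by
  obtain ⟨b, hb, hspan, hli⟩ := exists_linearIndependent k {v : V | T v = v}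
  have hr : Submodule.span k (Set.range ((↑) : b → V)) = Submodule.span k {v : V | T v = v} := by
    rw [Subtype.range_coe, hspan]
  refine ⟨b, (Basis.span hli).map (LinearEquiv.ofEq _ _ hr), hli.setFinite, fun i => ?_⟩
  have hi : T (i : V) = i := hb i.2
  simp [Basis.span_apply, hi]

/-- Lang: if the image of `T` spans, fixed vectors span. -/
lemma span_fixed_eq_top [FiniteDimensional k V] (T : V →ₛₗ[σ] V)
    (h1 : Submodule.span k (Set.range ⇑T) = ⊤)
    (h2 : ∀ (n : ℕ) (b : Fin (n + 1) → k), b ≠ 0 →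
      ∃ x : k, x ≠ 0 ∧ x = ∑ i : Fin (n + 1), (⇑σ)^[i.val + 1] x * (⇑σ)^[i.val] (b (Fin.rev i)))
    (h3 : ∀ c : k, ∃ y : k, σ y - y + c = 0) :
    Submodule.span k {v : V | T v = v} = ⊤ := by
  set F := Submodule.span k {v : V | T v = v} with hF
  by_contra hne
  have hTF : ∀ x ∈ F, T x ∈ F := fun x hx => map_span_mem T
    (fun y hy => by rw [Set.mem_ofPred_eq] at hy; rw [hy]; exact Submodule.subset_span hy) hx
  let Tb : (V ⧸ F) →ₛₗ[σ] (V ⧸ F) := Submodule.mapQ F F T hTF
  have hTb : ∀ x : V, Tb (F.mkQ x) = F.mkQ (T x) := fun x => rfl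
  have hspan : ∀ m, stage Tb m = ⊤ := by
    have hrange : Submodule.span k (Set.range ⇑Tb) = ⊤ := by
      have hr : Set.range ⇑Tb = F.mkQ '' Set.range ⇑T := by
        ext y
        constructor
        · rintro ⟨x, rfl⟩
          obtain ⟨x, rfl⟩ := F.mkQ_surjective x
          exact ⟨T x, ⟨x, rfl⟩, (hTb x).symm⟩
        · rintro ⟨_, ⟨x, rfl⟩, rfl⟩
          exact ⟨F.mkQ x, hTb x⟩
      rw [hr, Submodule.span_image, h1, Submodule.map_top, Submodule.range_mkQ]
    intro m
    induction m with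
    | zero => simp [stage]
    | succ m ih =>
      rw [eq_top_iff, ← hrange, Submodule.span_le]
      rintro _ ⟨x, rfl⟩
      refine map_span_mem Tb ?_ (show x ∈ stage Tb m by rw [ih]; trivial)
      rintro _ ⟨z, rfl⟩
      exact Submodule.subset_span ⟨z, by rw [Function.iterate_succ_apply']⟩
  obtain ⟨e, he⟩ : ∃ e : V ⧸ F, e ≠ 0 := by
    obtain ⟨v, hv⟩ : ∃ v, v ∉ F := by
      by_contra hc
      exact hne (eq_top_iff.2 fun x _ => not_not.1 fun h => hc ⟨x, h⟩)
    exact ⟨F.mkQ v, by simpa using hv⟩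
  have hem : ∀ m, (⇑Tb)^[m] e ≠ 0 := fun m h0 =>
    he (eq_zero_of_iterate_eq_zero Tb m (Submodule.mem_iInf _ |>.2 fun j => by rw [hspan j]; trivial) h0)
  obtain ⟨w, -, hw0, hw⟩ := exists_ne_zero_fixed Tb h2 e hem
  obtain ⟨v, rfl⟩ := F.mkQ_surjective w
  rw [hTb, Submodule.mkQ_apply, Submodule.mkQ_apply, Submodule.Quotient.eq] at hw
  obtain ⟨s, b, hs, hb⟩ := exists_fixed_basis_span T
  haveI : Fintype s := hs.fintype
  let TF : F →ₛₗ[σ] F :=
    { toFun := fun x => ⟨T x, hTF x x.2⟩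
      map_add' := fun x y => Subtype.ext (by simp)
      map_smul' := fun c x => Subtype.ext (by simp [map_smulₛₗ]) }
  obtain ⟨z, hz⟩ := sub_surjective_of_fixed_basis TF b (fun i => Subtype.ext (hb i)) h3 ⟨_, hw⟩
  have hz' : (z : V) - T z = T v - v := congrArg Subtype.val hz
  have hfix : T (v + z) = v + z := by
    rw [map_add]
    rw [sub_eq_sub_iff_add_eq_add] at hz'
    rw [← hz', add_comm]
  apply hw0
  rw [Submodule.mkQ_apply, Submodule.Quotient.mk_eq_zero]
  simpa using sub_mem (Submodule.subset_span (show v + (z : V) ∈ {v : V | T v = v} from hfix) : v + (z : V) ∈ F) z.2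

lemma exists_fixed_basis [FiniteDimensional k V] (T : V →ₛₗ[σ] V)
    (h1 : Submodule.span k (Set.range ⇑T) = ⊤)
    (h2 : ∀ (n : ℕ) (b : Fin (n + 1) → k), b ≠ 0 →
      ∃ x : k, x ≠ 0 ∧ x = ∑ i : Fin (n + 1), (⇑σ)^[i.val + 1] x * (⇑σ)^[i.val] (b (Fin.rev i)))
    (h3 : ∀ c : k, ∃ y : k, σ y - y + c = 0) :
    ∃ b : Basis (Fin (finrank k V)) k V, ∀ i, T (b i) = b i := by
  obtain ⟨s, b, hs, hb⟩ := exists_fixed_basis_span T
  haveI : Fintype s := hs.fintype
  let b' := b.map ((LinearEquiv.ofEq _ _ (span_fixed_eq_top T h1 h2 h3)).trans Submodule.topEquiv)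
  refine ⟨b'.reindex (Fintype.equivFinOfCardEq (finrank_eq_card_basis b').symm), fun i => ?_⟩
  simp [b', hb]

/-- `T` restricted to the stable part. -/
def ssRestrict (T : V →ₛₗ[σ] V) :
    (⨅ m, stage T m : Submodule k V) →ₛₗ[σ] (⨅ m, stage T m : Submodule k V) where
  toFun x := ⟨T x, mem_iInf_stage T x.2⟩
  map_add' x y := Subtype.ext (by simp)
  map_smul' c x := Subtype.ext (by simp [map_smulₛₗ])

lemma exists_fixed_basis_ss [FiniteDimensional k V] (T : V →ₛₗ[σ] V)
    (h2 : ∀ (n : ℕ) (b : Fin (n + 1) → k), b ≠ 0 →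
      ∃ x : k, x ≠ 0 ∧ x = ∑ i : Fin (n + 1), (⇑σ)^[i.val + 1] x * (⇑σ)^[i.val] (b (Fin.rev i)))
    (h3 : ∀ c : k, ∃ y : k, σ y - y + c = 0) :
    ∃ b : Basis (Fin (finrank k (⨅ m, stage T m : Submodule k V))) k (⨅ m, stage T m : Submodule k V),
      ∀ i, T (b i : V) = (b i : V) := by
  obtain ⟨N, hN⟩ := iInf_stage_eq T
  have h1 : Submodule.span k (Set.range ⇑(ssRestrict T)) = ⊤ := by
    apply Submodule.map_injective_of_injective (Submodule.injective_subtype _)
    rw [Submodule.map_span, Submodule.map_subtype_top]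
    refine le_antisymm (Submodule.span_le.2 ?_) ?_
    · rintro _ ⟨x, -, rfl⟩; exact x.2
    · conv_lhs => rw [hN (N + 1) (Nat.le_succ N)]
      refine (stage_succ_le T N).trans (Submodule.span_mono ?_)
      rintro _ ⟨x, hx, rfl⟩
      rw [SetLike.mem_coe, ← hN N le_rfl] at hx
      exact ⟨ssRestrict T ⟨x, hx⟩, ⟨_, rfl⟩, rfl⟩
  obtain ⟨b, hb⟩ := exists_fixed_basis (ssRestrict T) h1 h2 h3
  exact ⟨b, fun i => congrArg Subtype.val (hb i)⟩

lemma sub_surjective (hσ : Function.Surjective σ) [FiniteDimensional k V] (T : V →ₛₗ[σ] V)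
    (h2 : ∀ (n : ℕ) (b : Fin (n + 1) → k), b ≠ 0 →
      ∃ x : k, x ≠ 0 ∧ x = ∑ i : Fin (n + 1), (⇑σ)^[i.val + 1] x * (⇑σ)^[i.val] (b (Fin.rev i)))
    (h3 : ∀ c : k, ∃ y : k, σ y - y + c = 0) :
    Function.Surjective (fun v : V => v - T v) := by
  intro f
  obtain ⟨N, -, hc⟩ := fitting hσ T
  obtain ⟨a, ha, w, hw, rfl⟩ := Submodule.mem_sup.1
    (show f ∈ nilStage T N ⊔ ⨅ m, stage T m by rw [hc.sup_eq_top]; trivial)
  obtain ⟨b, hb⟩ := exists_fixed_basis_ss T h2 h3
  obtain ⟨z, hz⟩ := sub_surjective_of_fixed_basis (ssRestrict T) b (fun i => Subtype.ext (hb i)) h3 ⟨w, hw⟩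
  have hz' : (z : V) - T z = w := congrArg Subtype.val hz
  refine ⟨∑ i ∈ Finset.range N, (⇑T)^[i] a + z, ?_⟩
  have htel : ∑ i ∈ Finset.range N, (⇑T)^[i] a - T (∑ i ∈ Finset.range N, (⇑T)^[i] a) = a := by
    rw [map_sum, ← Finset.sum_sub_distrib]
    simp only [← Function.iterate_succ_apply' (⇑T)]
    rw [Finset.sum_range_sub' (fun i => (⇑T)^[i] a), Function.iterate_zero_apply]
    have ha' : (⇑T)^[N] a = 0 := ha
    rw [ha', sub_zero]
  simp only [map_add]
  rw [add_sub_add_comm, htel, hz']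

end Groth.Agent.SigmaLin.Basic
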