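import Groth.Agent.SigmaLin.Basic
import Mathlib.RingTheory.LocalRing.ResidueField.Basic
import Mathlib.RingTheory.Ideal.Quotient.Operations
import Mathlib.RingTheory.Finiteness.Ideal
import Mathlib.Algebra.Module.Torsion.Basic

/-! Semilinear maps over a local ring with nilpotent principal maximal ideal. -/

set_option autoImplicit false
universe u v

namespace Groth.Agent.SigmaLin.Local

open IsLocalRing

variable {R : Type u} [CommRing R] [IsLocalRing R] {σ : R →+* R}

/-- The fixed subring. -/
abbrev fixedRing (σ : R →+* R) : Subring R := RingHom.eqLocus σ (RingHom.id R)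

/-- The fixed submodule. -/
def fixedSub {N : Type v} [AddCommGroup N] [Module R N] (T : N →ₛₗ[σ] N) : Submodule (fixedRing σ) N where
  carrier := {m | T m = m}
  add_mem' {a b} ha hb := by
    show T (a + b) = a + b
    rw [map_add, ha, hb]
  zero_mem' := map_zero T
  smul_mem' c m hm := by
    have hc : σ (c : R) = c := c.2
    show T ((c : R) • m) = (c : R) • m
    rw [map_smulₛₗ, hc, hm]

/-- Multiples by the maximal ideal. -/
abbrev red (R : Type u) [CommRing R] [IsLocalRing R] (N : Type v) [AddCommGroup N] [Module R N] : Submodule R N :=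
  maximalIdeal R • (⊤ : Submodule R N)

section Step

variable {t : R} (hmax : maximalIdeal R = Ideal.span {t}) (hσt : σ t = t)
  (σbar : ResidueField R →+* ResidueField R) (hσbar : ∀ r : R, σbar (residue R r) = residue R (σ r))
variable {N : Type v} [AddCommGroup N] [Module R N] [Module.Finite R N] (T : N →ₛₗ[σ] N)

include hmax hσt hσbar in
/-- The reduction of a semilinear map modulo the maximal ideal. -/
lemma exists_reduction :
    ∃ (V : Type v) (_ : AddCommGroup V) (_ : Module (ResidueField R) V) (_ : FiniteDimensional (ResidueField R) V)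
      (q : N →+ V) (T' : V →ₛₗ[σbar] V), Function.Surjective q ∧ (∀ (r : R) (x : N), q (r • x) = residue R r • q x) ∧
        (∀ x, q (T x) = T' (q x)) ∧ ∀ x, q x = 0 → ∃ y, t • y = x := by
  have hI : (red R N) ≤ (red R N).comap T := by
    intro x hx
    refine Submodule.smul_induction_on (p := fun x => x ∈ (red R N).comap T) hx ?_ ?_
    · intro r hr y _
      obtain ⟨c, rfl⟩ := Ideal.mem_span_singleton'.1 (hmax ▸ hr)
      show T ((c * t) • y) ∈ (red R N)
      rw [map_smulₛₗ, map_mul, hσt]
      exact Submodule.smul_mem_smul (hmax ▸ Ideal.mem_span_singleton'.2 ⟨σ c, rfl⟩) Submodule.mem_top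
    · intro x y hx hy; exact Submodule.add_mem _ hx hy
  letI : Module (ResidueField R) (N ⧸ (red R N)) :=
    inferInstanceAs (Module (R ⧸ maximalIdeal R) (N ⧸ maximalIdeal R • (⊤ : Submodule R N)))
  haveI : IsScalarTower R (ResidueField R) (N ⧸ (red R N)) := IsScalarTower.of_algebraMap_smul fun r v => rfl
  haveI : FiniteDimensional (ResidueField R) (N ⧸ (red R N)) := Module.Finite.of_restrictScalars_finite R _ _
  let T0 : N ⧸ (red R N) →ₛₗ[σ] N ⧸ (red R N) := (red R N).mapQ (red R N) T hI
  let T' : N ⧸ (red R N) →ₛₗ[σbar] N ⧸ (red R N) :=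
    { toFun := T0
      map_add' := map_add T0
      map_smul' := fun c v => by
        obtain ⟨r, rfl⟩ := residue_surjective c
        rw [hσbar]
        exact map_smulₛₗ T0 r v }
  refine ⟨N ⧸ (red R N), inferInstance, inferInstance, inferInstance, (red R N).mkQ.toAddMonoidHom, T',
    (red R N).mkQ_surjective, fun r x => rfl, fun x => rfl, fun x hx => ?_⟩
  have hx' : x ∈ (red R N) := (Submodule.Quotient.mk_eq_zero (red R N)).1 hx
  refine Submodule.smul_induction_on (p := fun x => ∃ y, t • y = x) hx' ?_ ?_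
  · intro r hr y _
    obtain ⟨c, rfl⟩ := Ideal.mem_span_singleton'.1 (hmax ▸ hr)
    exact ⟨c • y, by rw [smul_smul, _root_.mul_comm]⟩
  · rintro _ _ ⟨a, rfl⟩ ⟨b, rfl⟩; exact ⟨a + b, smul_add _ _ _⟩

variable (t) in
/-- The submodule of multiples of `t`. -/
abbrev mults (N : Type v) [AddCommGroup N] [Module R N] : Submodule R N :=
  LinearMap.range (LinearMap.lsmul R N t)

include hσt in
/-- The restriction to the multiples of `t`. -/
lemma exists_restrict :
    ∃ T1 : mults t N →ₛₗ[σ] mults t N, ∀ z, (T1 z : N) = T (z : N) := by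
  refine ⟨{ toFun := fun z => ⟨T (z : N), ?_⟩
            map_add' := fun a b => Subtype.ext (map_add T _ _)
            map_smul' := fun c a => Subtype.ext (map_smulₛₗ T c _) }, fun z => rfl⟩
  obtain ⟨y, hy⟩ := z.2
  refine ⟨T y, ?_⟩
  rw [← hy]
  show t • T y = T (t • y)
  rw [map_smulₛₗ, hσt]

lemma pow_smul_mults {j : ℕ} (hj : ∀ x : N, t ^ (j + 1) • x = 0) (z : mults t N) : t ^ j • z = 0 := by
  obtain ⟨y, hy⟩ := z.2
  refine Subtype.ext ?_
  show t ^ j • (z : N) = 0
  rw [← hy]
  show t ^ j • t • y = 0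
  rw [smul_smul, ← pow_succ]
  exact hj y

end Step

variable {t : R} (hmax : maximalIdeal R = Ideal.span {t}) (hσt : σ t = t)
  (σbar : ResidueField R →+* ResidueField R) (hσbar : ∀ r : R, σbar (residue R r) = residue R (σ r))

include hmax hσt hσbar in
theorem sub_surjective (hsurj : Function.Surjective σbar)
    (h2 : ∀ (n : ℕ) (b : Fin (n + 1) → ResidueField R), b ≠ 0 →
      ∃ x : ResidueField R, x ≠ 0 ∧ x = ∑ i : Fin (n + 1), (⇑σbar)^[i.val + 1] x * (⇑σbar)^[i.val] (b (Fin.rev i)))
    (h3 : ∀ c : ResidueField R, ∃ y : ResidueField R, σbar y - y + c = 0) :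
    ∀ (j : ℕ) (N : Type v) [AddCommGroup N] [Module R N] [Module.Finite R N] (T : N →ₛₗ[σ] N),
      (∀ x : N, t ^ j • x = 0) → Function.Surjective (fun m : N => m - T m)
  | 0, N, _, _, _, T, hj => fun m => ⟨0, by
      have h0 : ∀ x : N, x = 0 := fun x => by simpa using hj x
      exact (h0 _).trans (h0 m).symm⟩
  | j + 1, N, _, _, _, T, hj => fun m => by
    obtain ⟨V, _, _, _, q, T', hq, hqs, hqT, hker⟩ := exists_reduction hmax hσt σbar hσbar T
    obtain ⟨v, hv⟩ := Basic.sub_surjective hsurj T' h2 h3 (q m)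
    obtain ⟨x, rfl⟩ := hq v
    obtain ⟨y, hy⟩ := hker (m - (x - T x)) (by
      rw [map_sub, map_sub, hqT]; exact sub_eq_zero.2 hv.symm)
    obtain ⟨T1, hT1⟩ := exists_restrict hσt T
    obtain ⟨z, hz⟩ := sub_surjective hsurj h2 h3 j (mults t N) T1 (pow_smul_mults hj) ⟨_, y, rfl⟩
    have hz' : (z : N) - T (z : N) = t • y := by
      rw [← hT1]
      exact congrArg Subtype.val hz
    refine ⟨x + (z : N), ?_⟩
    show x + (z : N) - T (x + (z : N)) = m
    have e : m = t • y + (x - T x) := by rw [hy, sub_add_cancel]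
    rw [e, ← hz', map_add]
    abel

include hmax hσt hσbar in
theorem fixed_fg (hlift : ∀ x : ResidueField R, σbar x = x → ∃ r : R, σ r = r ∧ residue R r = x) :
    ∀ (j : ℕ) (N : Type v) [AddCommGroup N] [Module R N] [Module.Finite R N] (T : N →ₛₗ[σ] N),
      (∀ x : N, t ^ j • x = 0) → (fixedSub T).FG
  | 0, N, _, _, _, T, hj => by
    have h : fixedSub T = ⊥ := (Submodule.eq_bot_iff _).2 fun x _ => by simpa using hj x
    rw [h]; exact Submodule.fg_bot
  | j + 1, N, _, _, _, T, hj => by
    classical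
    obtain ⟨V, _, _, _, q, T', hq, hqs, hqT, hker⟩ := exists_reduction hmax hσt σbar hσbar T
    obtain ⟨b, hbsub, hbspan, hbli⟩ := exists_linearIndependent (ResidueField R) (q '' (fixedSub T : Set N))
    haveI : Fintype b := (hbli.setFinite).fintype
    choose l hl hlq using fun v : b => hbsub v.2
    obtain ⟨T1, hT1⟩ := exists_restrict hσt T
    obtain ⟨s, hs⟩ := fixed_fg hlift j (mults t N) T1 (pow_smul_mults hj)
    have hsT : ∀ z ∈ s, T (z : N) = z := fun z hz => by
      have h : T1 z = z := hs.le (Submodule.subset_span hz)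
      rw [← hT1, h]
    let ι : mults t N →ₗ[fixedRing σ] N :=
      { toFun := Subtype.val, map_add' := fun _ _ => rfl, map_smul' := fun _ _ => rfl }
    refine ⟨Finset.univ.image l ∪ s.image Subtype.val, le_antisymm (Submodule.span_le.2 ?_) ?_⟩
    · intro x hx
      rcases Finset.mem_union.1 (Finset.mem_coe.1 hx) with h | h
      · obtain ⟨v, -, rfl⟩ := Finset.mem_image.1 h; exact hl v
      · obtain ⟨z, hz, rfl⟩ := Finset.mem_image.1 h; exact hsT z hz
    intro m hm
    have hmem : q m ∈ Submodule.span (ResidueField R) (Set.range (Subtype.val : b → V)) := by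
      rw [Subtype.range_coe, hbspan]
      exact Submodule.subset_span ⟨m, hm, rfl⟩
    obtain ⟨c, hc⟩ := (Submodule.mem_span_range_iff_exists_fun _).1 hmem
    have hfix : ∀ v : b, T' (v : V) = v := fun v => by
      have h : T (l v) = l v := hl v
      rw [← hlq v, ← hqT, h]
    have hcfix : ∀ v, σbar (c v) = c v := by
      have e : ∑ v, σbar (c v) • (v : V) = ∑ v, c v • (v : V) := by
        rw [hc]
        calc ∑ v, σbar (c v) • (v : V) = T' (∑ v, c v • (v : V)) := by
              rw [map_sum]
              exact Finset.sum_congr rfl fun v _ => by rw [map_smulₛₗ, hfix]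
          _ = q m := by rw [hc, ← hqT, show T m = m from hm]
      exact fun v => congrFun (Fintype.linearIndependent_iffₛ.1 hbli _ _ e |> funext) v
    choose r hr hrc using fun v => hlift (c v) (hcfix v)
    let x0 : N := ∑ v, r v • l v
    have hx0 : x0 ∈ Submodule.span (fixedRing σ) ((Finset.univ.image l ∪ s.image Subtype.val : Finset N) : Set N) := by
      refine Submodule.sum_mem _ fun v _ => ?_
      exact Submodule.smul_mem _ (⟨r v, hr v⟩ : fixedRing σ)
        (Submodule.subset_span (Finset.mem_coe.2 (Finset.mem_union_left _ (Finset.mem_image_of_mem l (Finset.mem_univ v)))))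
    have hqx0 : q x0 = q m := by
      rw [← hc, map_sum]
      exact Finset.sum_congr rfl fun v _ => by rw [hqs, hrc, hlq]
    have hx0T : T x0 = x0 := by
      rw [map_sum]
      exact Finset.sum_congr rfl fun v _ => by rw [map_smulₛₗ, hr, show T (l v) = l v from hl v]
    obtain ⟨y, hy⟩ := hker (m - x0) (by rw [map_sub, hqx0, sub_self])
    have hz : (⟨m - x0, y, hy⟩ : mults t N) ∈ fixedSub T1 := Subtype.ext (by
      rw [hT1]
      show T (m - x0) = m - x0
      rw [map_sub, hx0T, show T m = m from hm])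
    rw [← hs] at hz
    have hz' := Submodule.mem_map_of_mem (f := ι) hz
    rw [Submodule.map_span] at hz'
    have hsub : m - x0 ∈ Submodule.span (fixedRing σ)
        ((Finset.univ.image l ∪ s.image Subtype.val : Finset N) : Set N) := by
      refine Submodule.span_mono ?_ hz'
      rintro _ ⟨z, hzs, rfl⟩
      exact Finset.mem_coe.2 (Finset.mem_union_right _ (Finset.mem_image_of_mem _ hzs))
    simpa using Submodule.add_mem _ hsub hx0

omit [IsLocalRing R] in
/-- Reformulation of finite generation. -/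
lemma exists_finset_of_fg {M : Type v} [AddCommGroup M] [Module R M] (T : M →ₛₗ[σ] M) (h : (fixedSub T).FG) :
    ∃ s : Finset M, (∀ m ∈ s, T m = m) ∧
      ∀ m : M, T m = m → ∃ c : M → R, (∀ x ∈ s, σ (c x) = c x) ∧ m = ∑ x ∈ s, c x • x := by
  obtain ⟨s, hs⟩ := h
  refine ⟨s, fun m hm => hs.le (Submodule.subset_span hm), fun m hm => ?_⟩
  obtain ⟨f, -, hf⟩ := Submodule.mem_span_finset.1 (hs.ge (show m ∈ fixedSub T from hm))
  exact ⟨fun x => (f x : R), fun x _ => (f x).2, hf.symm⟩

/-- Transport of the two equation hypotheses along an isomorphism of fields. -/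
lemma transfer {K : Type u} {k : Type v} [Field K] [Field k] (e : K ≃+* k) (s : K →+* K) (f : k →+* k)
    (h : ∀ x, e (s x) = f (e x))
    (h2 : ∀ (n : ℕ) (b : Fin (n + 1) → k), b ≠ 0 →
      ∃ x : k, x ≠ 0 ∧ x = ∑ i : Fin (n + 1), (⇑f)^[i.val + 1] x * (⇑f)^[i.val] (b (Fin.rev i)))
    (h3 : ∀ c : k, ∃ y : k, f y - y + c = 0) :
    (∀ (n : ℕ) (b : Fin (n + 1) → K), b ≠ 0 →
      ∃ x : K, x ≠ 0 ∧ x = ∑ i : Fin (n + 1), (⇑s)^[i.val + 1] x * (⇑s)^[i.val] (b (Fin.rev i))) ∧
    ∀ c : K, ∃ y : K, s y - y + c = 0 := by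
  have hit : ∀ (i : ℕ) (x : K), e ((⇑s)^[i] x) = (⇑f)^[i] (e x) :=
    fun i x => Function.Semiconj.iterate_right h i x
  refine ⟨fun n b hb => ?_, fun c => ?_⟩
  · obtain ⟨x, hx, hxe⟩ := h2 n (fun i => e (b i)) (fun hc => hb (funext fun i =>
      e.injective (by simpa using congrFun hc i)))
    refine ⟨e.symm x, by simpa using hx, e.injective ?_⟩
    simp only [map_sum, map_mul, hit, RingEquiv.apply_symm_apply]
    exact hxe
  · obtain ⟨y, hy⟩ := h3 (e c)
    refine ⟨e.symm y, e.injective ?_⟩
    simpa [h] using hy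

end Groth.Agent.SigmaLin.Local
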