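import Mathlib.FieldTheory.IsAlgClosed.Basic
import Mathlib.FieldTheory.Perfect
import Mathlib.Algebra.Polynomial.Derivative
import Mathlib.Algebra.CharP.Lemmas

set_option autoImplicit false
universe u

namespace Groth.Agent.SigmaLin.Frob

open Polynomial

variable {k : Type u} [Field k] (p : ℕ) [hp : Fact p.Prime] [CharP k p] [IsAlgClosed k]

lemma eq_of_forall_root_zero (P : k[X]) (hP : P ≠ 0) (h : ∀ x : k, P.IsRoot x → x = 0) :
    ∀ j, j ≠ P.natDegree → P.coeff j = 0 := by
  intro j hj
  have hs : P.Splits := IsAlgClosed.splits P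
  have hr : P.roots = Multiset.replicate P.natDegree 0 :=
    Multiset.eq_replicate.2 ⟨hs.natDegree_eq_card_roots.symm,
      fun x hx => h x ((Polynomial.mem_roots hP).1 hx)⟩
  have := hs.eq_prod_roots
  rw [hr] at this
  rw [this]
  simp only [map_zero, sub_zero, Multiset.map_replicate, Multiset.prod_replicate,
    Polynomial.coeff_C_mul, Polynomial.coeff_X_pow]
  simp [hj]

lemma iterate_frobenius' (i : ℕ) (x : k) : (⇑(frobenius k p))^[i] x = x ^ p ^ i := by
  induction i with
  | zero => simp
  | succ i ih =>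
    rw [Function.iterate_succ_apply', ih, frobenius_def, ← pow_mul, ← pow_succ]

lemma h2_frobenius (n : ℕ) (b : Fin (n + 1) → k) (hb : b ≠ 0) :
    ∃ x : k, x ≠ 0 ∧ x = ∑ i : Fin (n + 1),
      (⇑(frobenius k p))^[i.val + 1] x * (⇑(frobenius k p))^[i.val] (b (Fin.rev i)) := by
  by_contra hcon
  obtain ⟨j, hj⟩ : ∃ j, b (Fin.rev j) ≠ 0 := by
    by_contra h
    apply hb
    funext i
    by_contra hi
    exact h ⟨Fin.rev i, by simpa using hi⟩
  set P : k[X] := ∑ i : Fin (n + 1), C ((b (Fin.rev i)) ^ p ^ i.val) * X ^ (p ^ (i.val + 1)) - X with hP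
  have hp1 := hp.out.one_lt
  have hne : ∀ i : Fin (n + 1), (1 : ℕ) ≠ p ^ (i.val + 1) :=
    fun i => (Nat.one_lt_pow (Nat.succ_ne_zero _) hp1).ne
  have hc1 : P.coeff 1 = -1 := by
    simp [hP, Polynomial.finsetSum_coeff, Polynomial.coeff_C_mul, Polynomial.coeff_X_pow, hne, ← map_pow]
  have hcj : P.coeff (p ^ (j.val + 1)) = (b (Fin.rev j)) ^ p ^ j.val := by
    simp only [hP, Polynomial.coeff_sub, Polynomial.finsetSum_coeff, Polynomial.coeff_C_mul,
      Polynomial.coeff_X_pow, Polynomial.coeff_X, if_neg (hne j), sub_zero]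
    rw [Finset.sum_eq_single j]
    · simp
    · intro i _ hij
      rw [if_neg, mul_zero]
      intro h
      exact hij (Fin.ext (by simpa using (Nat.pow_right_injective hp1 h).symm))
    · simp
  have hPne : P ≠ 0 := fun h => by simp [h] at hc1
  have hall := eq_of_forall_root_zero P hPne (fun x hx => by
    by_contra h0
    apply hcon
    refine ⟨x, h0, ?_⟩
    simp only [hP, Polynomial.IsRoot, Polynomial.eval_sub, Polynomial.eval_finsetSum,
      Polynomial.eval_mul, Polynomial.eval_C, Polynomial.eval_pow, Polynomial.eval_X] at hx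
    rw [sub_eq_zero] at hx
    conv_lhs => rw [← hx]
    refine Finset.sum_congr rfl fun i _ => ?_
    rw [iterate_frobenius', iterate_frobenius', mul_comm])
  have h1 : (1 : ℕ) = P.natDegree := by
    by_contra h
    have := hall 1 h
    rw [hc1] at this
    simp at this
  have := hall (p ^ (j.val + 1)) (by rw [← h1]; exact (hne j).symm)
  rw [hcj] at this
  exact pow_ne_zero _ hj this

lemma h3_frobenius (c : k) : ∃ y : k, frobenius k p y - y + c = 0 := by
  have hp1 := hp.out.one_lt
  obtain ⟨y, hy⟩ := IsAlgClosed.exists_root (X ^ p - X + C c : k[X]) (by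
    have : (X ^ p - X + C c : k[X]).degree = (p : WithBot ℕ) := by
      rw [sub_add, Polynomial.degree_sub_eq_left_of_degree_lt] <;> rw [Polynomial.degree_X_pow]
      calc (X - C c : k[X]).degree = 1 := Polynomial.degree_X_sub_C c
        _ < p := by exact_mod_cast hp1
    rw [this]
    exact_mod_cast hp.out.ne_zero)
  exact ⟨y, by simpa [Polynomial.IsRoot, frobenius_def] using hy⟩

lemma iterate_inv_spec (i : ℕ) (x : k) :
    ((⇑(frobeniusEquiv k p).symm.toRingHom)^[i] x) ^ p ^ i = x := by
  induction i generalizing x with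
  | zero => simp
  | succ i ih =>
    rw [Function.iterate_succ_apply, pow_succ, pow_mul, ih]
    exact frobeniusEquiv_symm_pow_p k p x

lemma h2_inv (n : ℕ) (b : Fin (n + 1) → k) (hb : b ≠ 0) :
    ∃ x : k, x ≠ 0 ∧ x = ∑ i : Fin (n + 1),
      (⇑(frobeniusEquiv k p).symm.toRingHom)^[i.val + 1] x *
        (⇑(frobeniusEquiv k p).symm.toRingHom)^[i.val] (b (Fin.rev i)) := by
  by_contra hcon
  obtain ⟨j, hj⟩ : ∃ j, b (Fin.rev j) ≠ 0 := by
    by_contra h
    apply hb
    funext i
    by_contra hi
    exact h ⟨Fin.rev i, by simpa using hi⟩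
  set τ : k →+* k := (frobeniusEquiv k p).symm.toRingHom with hτ
  have hp1 := hp.out.one_lt
  set c : Fin (n + 1) → k := fun i => (((⇑τ)^[i.val] (b (Fin.rev i)))) ^ p ^ (n + 1) with hc
  set P : k[X] := X ^ (p ^ (n + 1)) - ∑ i : Fin (n + 1), C (c i) * X ^ (p ^ (n - i.val)) with hP
  have hne : ∀ i : Fin (n + 1), p ^ (n + 1) ≠ p ^ (n - i.val) := fun i h => by
    have := Nat.pow_right_injective hp1 h
    omega
  have htop : P.coeff (p ^ (n + 1)) = 1 := by
    simp [hP, Polynomial.finsetSum_coeff, Polynomial.coeff_C_mul, Polynomial.coeff_X_pow, hne]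
  have hcj : P.coeff (p ^ (n - j.val)) = - c j := by
    simp only [hP, Polynomial.coeff_sub, Polynomial.finsetSum_coeff, Polynomial.coeff_C_mul,
      Polynomial.coeff_X_pow, if_neg (hne j).symm, zero_sub]
    rw [Finset.sum_eq_single j]
    · simp
    · intro i _ hij
      rw [if_neg, mul_zero]
      intro h
      have := Nat.pow_right_injective hp1 h
      exact hij (Fin.ext (by omega))
    · simp
  have hPne : P ≠ 0 := fun h => by simp [h] at htop
  have hall := eq_of_forall_root_zero P hPne (fun x hx => by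
    by_contra h0
    apply hcon
    refine ⟨x, h0, ?_⟩
    simp only [hP, Polynomial.IsRoot, Polynomial.eval_sub, Polynomial.eval_finsetSum,
      Polynomial.eval_mul, Polynomial.eval_C, Polynomial.eval_pow, Polynomial.eval_X] at hx
    rw [sub_eq_zero] at hx
    apply iterateFrobenius_inj k p (n + 1)
    rw [iterateFrobenius_def, iterateFrobenius_def, sum_pow_char_pow, hx]
    refine Finset.sum_congr rfl fun i _ => ?_
    rw [mul_pow, mul_comm]
    congr 1
    conv_lhs => rw [← iterate_inv_spec p (i.val + 1) x]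
    rw [← pow_mul, ← pow_add]
    congr 2
    omega)
  have h1 : p ^ (n + 1) = P.natDegree := by
    by_contra h
    have := hall _ h
    rw [htop] at this
    simp at this
  have := hall (p ^ (n - j.val)) (by rw [← h1]; exact (hne j).symm)
  rw [hcj, neg_eq_zero] at this
  refine hj ?_
  have h' : (⇑τ)^[j.val] (b (Fin.rev j)) = 0 := eq_zero_of_pow_eq_zero this
  exact (τ.injective.iterate j.val) (by rw [h', iterate_map_zero])

lemma h3_inv (c : k) : ∃ y : k, (frobeniusEquiv k p).symm.toRingHom y - y + c = 0 := by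
  obtain ⟨z, hz⟩ := h3_frobenius p (-c)
  refine ⟨frobenius k p z, ?_⟩
  have : (frobeniusEquiv k p).symm.toRingHom (frobenius k p z) = z :=
    frobeniusEquiv_symm_apply_frobenius k p z
  rw [this, show z - frobenius k p z + c = -(frobenius k p z - z + -c) by abel, hz, neg_zero]

end Groth.Agent.SigmaLin.Frob
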