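import Groth.Agent.SigmaLin.Local
import Groth.Agent.SigmaLin.Frob
import Groth.Prelude.Def_WittGrp
import Mathlib.RingTheory.WittVector.DiscreteValuationRing

/-! Semilinear maps over truncated Witt vectors of an algebraically closed field. -/

set_option autoImplicit false
set_option linter.style.haveILetI false
universe u v

namespace Groth.Agent.SigmaLin.Witt

open IsLocalRing

variable (p : ℕ) [hp : Fact p.Prime] {k : Type u} [Field k] [CharP k p]

variable {n : ℕ}

/-- The first component as a ring map. -/
noncomputable def zeroth (hn : 0 < n) : TruncatedWittVector p n k →+* k where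
  toFun x := x.coeff ⟨0, hn⟩
  map_one' := by
    rw [← map_one (WittVector.truncate (p := p) (R := k) n), WittVector.coeff_truncate, WittVector.one_coeff_zero]
  map_mul' x y := by
    obtain ⟨X, rfl⟩ := WittVector.truncate_surjective p n k x
    obtain ⟨Y, rfl⟩ := WittVector.truncate_surjective p n k y
    simp only [← map_mul, WittVector.coeff_truncate]
    exact map_mul WittVector.constantCoeff X Y
  map_zero' := by
    rw [← map_zero (WittVector.truncate (p := p) (R := k) n), WittVector.coeff_truncate, WittVector.zero_coeff]
  map_add' x y := by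
    obtain ⟨X, rfl⟩ := WittVector.truncate_surjective p n k x
    obtain ⟨Y, rfl⟩ := WittVector.truncate_surjective p n k y
    simp only [← map_add, WittVector.coeff_truncate]
    exact map_add WittVector.constantCoeff X Y

lemma zeroth_truncMap (hn : 0 < n) (f : k →+* k) (x : TruncatedWittVector p n k) :
    zeroth p hn (WittGrp.truncMap p n f x) = f (zeroth p hn x) :=
  WittGrp.coeff_truncMap p n f x _

omit [CharP k p] in
lemma pow_eq_zero [CharP k p] : (p : TruncatedWittVector p n k) ^ n = 0 := by
  rw [← map_natCast (WittVector.truncate (p := p) (R := k) n), ← map_pow]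
  refine TruncatedWittVector.ext fun i => ?_
  rw [WittVector.coeff_truncate, TruncatedWittVector.coeff_zero, WittVector.coeff_p_pow_eq_zero]
  exact Nat.ne_of_lt i.2

variable [PerfectRing k p]

/-- The facts about `W_n(k)` and an endomorphism induced by an endomorphism of `k`. -/
theorem exists_setup (hn : 0 < n) (f : k →+* k) :
    ∃ (_ : IsLocalRing (TruncatedWittVector p n k)), maximalIdeal (TruncatedWittVector p n k) =
        Ideal.span {(p : TruncatedWittVector p n k)} ∧
      ∃ (σbar : ResidueField (TruncatedWittVector p n k) →+* ResidueField (TruncatedWittVector p n k))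
        (e : ResidueField (TruncatedWittVector p n k) ≃+* k), (∀ x, e (σbar x) = f (e x)) ∧
        (∀ r, σbar (residue _ r) = residue _ (WittGrp.truncMap p n f r)) ∧
        ∀ x, σbar x = x → ∃ r, WittGrp.truncMap p n f r = r ∧ residue _ r = x := by
  have hg : Function.Surjective (zeroth p hn (k := k)) := fun c =>
    ⟨TruncatedWittVector.mk p (fun i => if i.val = 0 then c else 0), by
      simp [zeroth]⟩
  haveI : Nontrivial (TruncatedWittVector p n k) := (zeroth p hn (k := k)).domain_nontrivial
  haveI hloc : IsLocalRing (TruncatedWittVector p n k) :=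
    IsLocalRing.of_surjective' (WittVector.truncate (p := p) (R := k) n) (WittVector.truncate_surjective p n k)
  haveI : (RingHom.ker (zeroth p hn (k := k))).IsMaximal := RingHom.ker_isMaximal_of_surjective _ hg
  have hker : RingHom.ker (zeroth p hn (k := k)) = maximalIdeal _ := IsLocalRing.eq_maximalIdeal ‹_›
  refine ⟨hloc, le_antisymm (fun x hx => ?_) (Ideal.span_le.2 (Set.singleton_subset_iff.2 ?_)), ?_⟩
  · rw [← hker, RingHom.mem_ker] at hx
    obtain ⟨X, rfl⟩ := WittVector.truncate_surjective p n k x
    have hX : ¬ IsUnit X := fun h => by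
      have := h.map (WittVector.constantCoeff : WittVector p k →+* k)
      rw [show (WittVector.constantCoeff X : k) = 0 from hx] at this
      exact not_isUnit_zero this
    have hm : X ∈ maximalIdeal (WittVector p k) := hX
    rw [(WittVector.irreducible p).maximalIdeal_eq] at hm
    obtain ⟨c, rfl⟩ := Ideal.mem_span_singleton'.1 hm
    exact Ideal.mem_span_singleton'.2 ⟨WittVector.truncate n c, by rw [map_mul, map_natCast]⟩
  · rw [SetLike.mem_coe, ← hker, RingHom.mem_ker, map_natCast]
    exact CharP.cast_eq_zero k p
  let e : ResidueField (TruncatedWittVector p n k) ≃+* k :=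
    (Ideal.quotEquivOfEq hker.symm).trans (RingHom.quotientKerEquivOfSurjective hg)
  have he : ∀ r, e (residue _ r) = zeroth p hn r := fun r => rfl
  let σbar : ResidueField (TruncatedWittVector p n k) →+* ResidueField (TruncatedWittVector p n k) :=
    (e.symm.toRingHom.comp f).comp e.toRingHom
  have hes : ∀ x, e (σbar x) = f (e x) := fun x => e.apply_symm_apply _
  refine ⟨σbar, e, hes, fun r => e.injective (by rw [hes, he, he, zeroth_truncMap]), fun x hx => ?_⟩
  have hfx : f (e x) = e x := by rw [← hes, hx]
  refine ⟨TruncatedWittVector.mk p (fun i => if i.val = 0 then e x else 0), ?_, e.injective ?_⟩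
  · refine TruncatedWittVector.ext fun i => ?_
    rw [WittGrp.coeff_truncMap, TruncatedWittVector.coeff_mk]
    split_ifs <;> simp [hfx]
  · rw [he]
    simp [zeroth]

lemma finite_fixed_field [IsAlgClosed k] (f : k →+* k)
    (hf : f = frobenius k p ∨ f = (frobeniusEquiv k p).symm.toRingHom) : {x : k | f x = x}.Finite := by
  classical
  refine ((Polynomial.X ^ p - Polynomial.X : Polynomial k).roots.toFinset.finite_toSet).subset fun x hx => ?_
  have hxp : x ^ p = x := by
    rcases hf with rfl | rfl
    · exact hx
    · have := congrArg (frobeniusEquiv k p) (show (frobeniusEquiv k p).symm x = x from hx)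
      rw [RingEquiv.apply_symm_apply] at this
      exact this.symm
  have hne : (Polynomial.X ^ p - Polynomial.X : Polynomial k) ≠ 0 :=
    FiniteField.X_pow_card_sub_X_ne_zero k hp.out.one_lt
  simp [Polynomial.mem_roots hne, Polynomial.IsRoot, hxp]

/-- The fixed elements of an endomorphism with finitely many fixed scalars form a finite set. -/
lemma finite_fixedRing (f : k →+* k) (hf : {x : k | f x = x}.Finite) :
    Finite (Local.fixedRing (WittGrp.truncMap p n f)) := by
  haveI := hf.to_subtype
  refine Finite.of_injective (fun r i => (⟨r.1.coeff i, ?_⟩ : {x : k | f x = x})) fun a b h => ?_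
  · show f (r.1.coeff i) = r.1.coeff i
    conv_rhs => rw [← show WittGrp.truncMap p n f r.1 = r.1 from r.2]
    rw [WittGrp.coeff_truncMap]
  · exact Subtype.ext (TruncatedWittVector.ext fun i => congrArg Subtype.val (congrFun h i))

end Groth.Agent.SigmaLin.Witt
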